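import Cfsg.Agent.Lib.Helper39.Sz.Radical
import Cfsg.Agent.Lib.Helper37.Suzuki.Simple
import Cfsg.Agent.Lib.Helper80.Inflation

/-!
# The minimal degree of a nontrivial irreducible character of a Suzuki group
-/

set_option autoImplicit false
set_option linter.unusedSectionVars false

namespace Cfsg.Agent.Lib.Helper39.SzDeg

open Cfsg Cfsg.Agent.Lib Cfsg.Agent.Lib.Helper15 Cfsg.Agent.Lib.Helper37.Suz
open scoped ComplexConjugate

variable {F : Type*} [Field F] [Fintype F] (m : ℕ) [SzField F m]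

theorem cf_center_const {χ : Cfsg.Sz F m → ℂ} (hχ : IsClassFunction (Cfsg.Sz F m) χ) {b : F}
    (hb : b ≠ 0) : χ (TS m 0 b) = χ (TS m 0 1) := by
  obtain ⟨x, hx⟩ := sig_mul_self_surjective m b
  have hx0 : x ≠ 0 := by
    rintro rfl
    apply hb
    rw [← hx]
    simp
  rw [← hχ (TS m 0 1) (hS m (Units.mk0 x hx0))]
  congr 1
  apply Subtype.ext
  have := hh_conj_T m (Units.mk0 x hx0) 0 1
  simp only [Units.val_mk0, mul_zero, mul_one] at this
  have hx' : sig m x * x = b := hx
  rw [hx'] at this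
  exact this.symm

/-- the centre of `Q` as a homomorphism -/
noncomputable def zQ : Multiplicative F →* Qsub F m where
  toFun b := TQ m 0 (Multiplicative.toAdd b)
  map_one' := by simpa using TQ_zero m
  map_mul' := by
    intro a b
    rw [TQ_mul]
    simp

theorem zQ_apply (b : F) : zQ m (Multiplicative.ofAdd b) = TQ m 0 b := rfl

theorem finite_Sz : Finite (Cfsg.Sz F m) := by
  apply Nat.finite_of_card_ne_zero
  rw [card_Sz]
  have : 0 < Fintype.card F := Fintype.card_pos
  have h8 := eight_le_card (F := F) m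
  have h1 : 0 < Fintype.card F - 1 := by omega
  positivity

theorem center_not_ker {χ : Cfsg.Sz F m → ℂ} (hχ : IsIrrCharacter (Cfsg.Sz F m) χ)
    (h1 : χ 1 ≠ 1) : χ (TS m 0 1) ≠ χ 1 := by
  classical
  have := finite_Sz (F := F) m
  have := Fintype.ofFinite (Cfsg.Sz F m)
  intro h
  have hs := isSimpleGroup_Sz (F := F) m
  have hn := Helper80.charKer_normal (irr_char hχ)
  rcases hs.eq_bot_or_eq_top_of_normal _ hn with hb | ht
  · have hmem : TS m (0 : F) 1 ∈ Helper80.charKer χ (irr_char hχ) := h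
    rw [hb, Subgroup.mem_bot] at hmem
    rw [← TS_zero m] at hmem
    exact one_ne_zero (TS_injective m hmem).2
  · have hall : ∀ g, χ g = χ 1 := by
      intro g
      have : g ∈ Helper80.charKer χ (irr_char hχ) := by rw [ht]; trivial
      exact this
    have h2 := irr_inner_self hχ
    unfold classInner at h2
    simp_rw [hall] at h2
    obtain ⟨n, hn⟩ := char_one_nat (irr_char hχ)
    rw [hn] at h2
    rw [Finset.sum_const, Finset.card_univ, nsmul_eq_mul, Complex.conj_natCast,
      Nat.card_eq_fintype_card] at h2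
    have hc : (Fintype.card (Cfsg.Sz F m) : ℂ) ≠ 0 := by exact_mod_cast Fintype.card_ne_zero
    rw [← mul_assoc, inv_mul_cancel₀ hc, one_mul] at h2
    have h3 : n * n = 1 := by exact_mod_cast h2
    have h4 : n = 1 := Nat.eq_one_of_mul_eq_one_right h3
    apply h1
    rw [hn, h4]
    simp

theorem min_degree [DecidableEq F] {χ : Cfsg.Sz F m → ℂ} (hχ : IsIrrCharacter (Cfsg.Sz F m) χ)
    (h1 : χ 1 ≠ 1) {n : ℕ} (hn : χ 1 = n) : 2 ^ m * (2 ^ (2 * m + 1) - 1) ≤ n := by
  classical
  have hfinG := finite_Sz (F := F) m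
  have hfin : Finite (Qsub F m) := Finite.of_equiv _ (QEquiv m)
  have := Fintype.ofFinite (Qsub F m)
  have := Fintype.ofFinite (IrrCharacter (Qsub F m))
  set χQ : Qsub F m → ℂ := fun x => χ x with hχQ
  have hcQ : IsCharacter (Qsub F m) χQ := char_restrict (irr_char hχ) _
  have hv := center_not_ker m hχ h1
  -- a constituent nontrivial on the centre
  obtain ⟨θ, hθ, hθ1, hθ2⟩ : ∃ θ : Qsub F m → ℂ, IsIrrCharacter (Qsub F m) θ ∧
      classInner χQ θ ≠ 0 ∧ θ (TQ m 0 1) ≠ θ 1 := by
    by_contra hcon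
    push Not at hcon
    apply hv
    have hexp := cf_expansion (char_cf hcQ)
    have e1 : χ (TS m 0 1) = χQ (TQ m 0 1) := rfl
    have e2 : χ 1 = χQ 1 := rfl
    rw [e1, e2, hexp]
    simp only [Finset.sum_apply, Pi.smul_apply, smul_eq_mul]
    apply Finset.sum_congr rfl
    intro η _
    by_cases h0 : classInner χQ η.1 = 0
    · rw [h0, zero_mul, zero_mul]
    · rw [hcon η.1 η.2 h0]
  obtain ⟨k, hk⟩ := char_one_nat (irr_char hθ)
  have hkm : 2 ^ m ≤ k := irrQ_deg m hθ hθ2 hk
  set μ := cenChar m hθ with hμdef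
  have hμ : μ ≠ 1 := by
    intro h
    apply hθ2
    rw [eq_cenChar_mul m hθ, ← hμdef, h, AddChar.one_apply, mul_one]
  -- the difference is a character
  have hdiff : IsCharacter (Qsub F m) (χQ - θ) := by
    rw [isChar_iff]
    refine ⟨Helper3.IsClassFunction.sub (char_cf hcQ) (irr_cf hθ), ?_⟩
    intro η hη
    rw [classInner_sub_left]
    obtain ⟨a, ha⟩ := inner_nat hcQ (irr_char hη)
    by_cases hηθ : θ = η
    · subst hηθ
      rw [irr_inner_self hθ, ha]
      have ha0 : a ≠ 0 := by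
        rintro rfl
        apply hθ1
        rw [ha]
        simp
      refine ⟨a - 1, ?_⟩
      rw [Nat.cast_sub (by omega)]
      simp
    · rw [irr_inner_ne hθ hη hηθ, sub_zero]
      exact ⟨a, ha⟩
  set f : F → ℂ := fun b => χ (TS m 0 b) with hf
  have hconst : ∀ b, b ≠ 0 → f b = f 1 := fun b hb => cf_center_const m (irr_cf hχ) hb
  have hf0 : f 0 = χ 1 := by
    rw [hf]
    simp only
    rw [TS_zero]
  have d1 := addMult_of_const hconst hμ
  have d2 := addMult_one_of_const hconst
  obtain ⟨a, ha⟩ : ∃ a : ℕ, addMult f 1 = a := addMult_nat (zQ m) hcQ 1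
  obtain ⟨e, he⟩ : ∃ e : ℕ, addMult (fun b => (χQ - θ) (zQ m (Multiplicative.ofAdd b))) μ = e :=
    addMult_nat (zQ m) hdiff μ
  have hq0 : (Fintype.card F : ℂ) ≠ 0 := by exact_mod_cast Fintype.card_ne_zero
  have d3 : addMult (fun b => θ (zQ m (Multiplicative.ofAdd b))) μ = k := by
    unfold addMult
    have : ∀ b : F, θ (zQ m (Multiplicative.ofAdd b)) * conj (μ b) = k := by
      intro b
      rw [zQ_apply, eq_cenChar_mul m hθ, ← hμdef, hk, mul_assoc]
      have : μ b * conj (μ b) = 1 := by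
        rw [← AddChar.map_neg_eq_conj, ← AddChar.map_add_eq_mul, add_neg_cancel,
          AddChar.map_zero_eq_one]
      rw [this, mul_one]
    simp_rw [this]
    rw [Finset.sum_const, Finset.card_univ, nsmul_eq_mul, ← mul_assoc, inv_mul_cancel₀ hq0, one_mul]
  have d4 : addMult f μ = k + e := by
    rw [← d3, ← he, ← addMult_add]
    congr 1
    ext b
    simp only [Pi.add_apply, Pi.sub_apply, zQ_apply]
    rw [add_sub_cancel]
    rfl
  rw [d4] at d1
  rw [ha] at d2
  rw [hf0, hn] at d1 d2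
  have hq1 : 1 ≤ Fintype.card F := Fintype.card_pos
  have key : (n : ℂ) = a + ((Fintype.card F : ℂ) - 1) * (k + e) := by
    rw [d1, d2]
    field_simp
    ring
  have key' : n = a + (Fintype.card F - 1) * (k + e) := by
    have : (n : ℂ) = ((a + (Fintype.card F - 1) * (k + e) : ℕ) : ℂ) := by
      rw [key]
      push_cast [Nat.cast_sub hq1]
      ring
    exact_mod_cast this
  rw [key', SzField.card (F := F) (m := m)]
  calc 2 ^ m * (2 ^ (2 * m + 1) - 1) = (2 ^ (2 * m + 1) - 1) * 2 ^ m := mul_comm _ _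
    _ ≤ (2 ^ (2 * m + 1) - 1) * (k + e) := Nat.mul_le_mul_left _ (by omega)
    _ ≤ _ := Nat.le_add_left _ _

end Cfsg.Agent.Lib.Helper39.SzDeg
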