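import Cfsg.Agent.Lib.Helper37.Suzuki.Sylow
import Cfsg.Agent.Lib.Helper15.Extraspecial
import Cfsg.Agent.Lib.Helper39.GL2Char.Unip
import Cfsg.Agent.Lib.Helper3.Eigen

/-!
# Irreducible characters of the Sylow 2-subgroup of a Suzuki group which are nontrivial on the centre
-/

set_option autoImplicit false
set_option linter.unusedSectionVars false

namespace Cfsg.Agent.Lib.Helper39.SzDeg

open Cfsg Cfsg.Agent.Lib Cfsg.Agent.Lib.Helper15 Cfsg.Agent.Lib.Helper37.Suz
open scoped ComplexConjugate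

variable {F : Type*} [Field F] [Fintype F] (m : ℕ) [SzField F m]

omit [Fintype F] in
theorem addChar_mul_self [CharP F 2] (μ : AddChar F ℂ) (x : F) : μ x * μ x = 1 := by
  rw [← AddChar.map_add_eq_mul, add_self', AddChar.map_zero_eq_one]

omit [Fintype F] in
theorem addChar_eq_of_add [CharP F 2] {μ : AddChar F ℂ} {x y : F} (h : μ (x + y) = 1) :
    μ y = μ x := by
  rw [AddChar.map_add_eq_mul] at h
  calc μ y = (μ x * μ x) * μ y := by rw [addChar_mul_self, one_mul]
    _ = μ x * (μ x * μ y) := by ring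
    _ = μ x := by rw [h, mul_one]

/-- the radical of the commutator form attached to a nontrivial character has at most one
nonzero element. -/
theorem radical_unique {μ : AddChar F ℂ} (hμ : μ ≠ 1) {a a' : F} (ha : a ≠ 0) (ha' : a' ≠ 0)
    (h : ∀ c, μ (sig m a * c + sig m c * a) = 1)
    (h' : ∀ c, μ (sig m a' * c + sig m c * a') = 1) : a = a' := by
  have hc2 := charTwo (F := F) m
  have hprim : μ.IsPrimitive := AddChar.IsPrimitive.of_ne_one hμ
  have key : ∀ a : F, (∀ c, μ (sig m a * c + sig m c * a) = 1) →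
      ∀ t, μ (sig m a * a * sig m t) = μ (sig m a * a * t) := by
    intro a h t
    apply addChar_eq_of_add
    have := h (a * t)
    rw [sig_mul] at this
    rw [← this]
    congr 1
    ring
  have k1 := key a h
  have k2 := key a' h'
  set A := sig m a * a with hA
  set A' := sig m a' * a' with hA'
  have hA0 : A ≠ 0 := mul_ne_zero (sig_ne_zero m ha) ha
  have hA0' : A' ≠ 0 := mul_ne_zero (sig_ne_zero m ha') ha'
  obtain ⟨w', hw'⟩ := sig_surjective m (A' / A)
  have e1 : ∀ t, μ (A * w' * t) = μ (A * (A' / A) * t) := by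
    intro t
    have h1 : A * (A' / A) = A' := by field_simp
    rw [h1, ← k2 t, ← h1, ← hw', mul_assoc A (sig m w'), ← sig_mul, k1, mul_assoc]
  have e2 : A * (w' + A' / A) = 0 := by
    by_contra hne
    apply hprim hne
    ext t
    rw [AddChar.mulShift_apply, AddChar.one_apply]
    have : A * (w' + A' / A) * t = A * w' * t + A * (A' / A) * t := by ring
    rw [this, AddChar.map_add_eq_mul, e1, addChar_mul_self]
  have e3 : w' = A' / A := by
    have := (mul_eq_zero.1 e2).resolve_left hA0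
    have h2 : w' = -(A' / A) := eq_neg_of_add_eq_zero_left this
    rw [h2, CharTwo.neg_eq]
  rw [e3] at hw'
  rcases (sig_eq_self_iff m _).1 hw' with h0 | h1
  · exact absurd h0 (div_ne_zero hA0' hA0)
  · have : A' = A := by
      field_simp at h1
      exact h1
    exact (sig_mul_self_injective m this).symm

theorem char_norm_le {G : Type*} [Group G] [Finite G] {χ : G → ℂ} (hχ : IsCharacter G χ) {n : ℕ}
    (hn : χ 1 = n) (g : G) : ‖χ g‖ ≤ (n : ℝ) := by
  obtain ⟨k, ρ, rfl⟩ := hχ
  have h := Helper3.norm_char_le ρ g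
  rw [Representation.char_one] at hn
  have : (Module.finrank ℂ (Fin k → ℂ)) = n := by exact_mod_cast hn
  rwa [this] at h

theorem TQ0_mem_center (b : F) : TQ m 0 b ∈ Subgroup.center (Qsub F m) :=
  (mem_center_Q m _).2 ⟨b, rfl⟩

/-- the central character of an irreducible character of `Q`. -/
noncomputable def cenChar {θ : Qsub F m → ℂ} (hθ : IsIrrCharacter (Qsub F m) θ) : AddChar F ℂ where
  toFun b := θ (TQ m 0 b) / θ 1
  map_zero_eq_one' := by
    rw [TQ_zero, div_self (irr_one_ne_zero hθ)]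
  map_add_eq_mul' := by
    intro b c
    have h := irr_mul_central hθ (TQ m 0 b) (TQ0_mem_center m c)
    rw [TQ_mul] at h
    have h1 := irr_one_ne_zero hθ
    have e : (0 : F) + 0 = 0 := add_zero 0
    have e2 : b + c + sig m 0 * 0 = b + c := by rw [mul_zero, add_zero]
    rw [e, e2] at h
    field_simp
    rw [h]

theorem cenChar_apply {θ : Qsub F m → ℂ} (hθ : IsIrrCharacter (Qsub F m) θ) (b : F) :
    cenChar m hθ b = θ (TQ m 0 b) / θ 1 := rfl

theorem eq_cenChar_mul {θ : Qsub F m → ℂ} (hθ : IsIrrCharacter (Qsub F m) θ) (b : F) :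
    θ (TQ m 0 b) = θ 1 * cenChar m hθ b := by
  rw [cenChar_apply]
  have h1 := irr_one_ne_zero hθ
  field_simp

theorem irrQ_vanish {θ : Qsub F m → ℂ} (hθ : IsIrrCharacter (Qsub F m) θ) (a b c : F)
    (h : cenChar m hθ (sig m a * c + sig m c * a) ≠ 1) : θ (TQ m a b) = 0 := by
  have e : (TQ m a b)⁻¹ * (TQ m c 0)⁻¹ * TQ m a b * TQ m c 0 =
      TQ m 0 (sig m a * c + sig m c * a) := by
    have := TQ_comm m a (b + sig m a * a) c (0 + sig m c * c)
    rw [← TQ_inv, ← TQ_inv, inv_inv, inv_inv] at this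
    exact this
  apply irr_eq_zero_of_comm hθ (TQ m a b) (TQ m c 0)
  · rw [e]
    exact TQ0_mem_center m _
  · rw [e, eq_cenChar_mul m hθ]
    intro h2
    apply h
    have h1 := irr_one_ne_zero hθ
    exact mul_left_cancel₀ h1 (h2.trans (mul_one _).symm)

theorem irrQ_deg {θ : Qsub F m → ℂ} (hθ : IsIrrCharacter (Qsub F m) θ) {b0 : F}
    (hb : θ (TQ m 0 b0) ≠ θ 1) {n : ℕ} (hn : θ 1 = n) : 2 ^ m ≤ n := by
  classical
  have hfin : Finite (Qsub F m) := Finite.of_equiv _ (QEquiv m)
  have := Fintype.ofFinite (Qsub F m)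
  set μ := cenChar m hθ with hμdef
  have hμ : μ ≠ 1 := by
    intro h
    apply hb
    rw [eq_cenChar_mul m hθ, ← hμdef, h, AddChar.one_apply, mul_one]
  set R : Finset F := Finset.univ.filter (fun a => ∀ c, μ (sig m a * c + sig m c * a) = 1) with hR
  have hRcard : R.card ≤ 2 := by
    have h1 : (R.erase 0).card ≤ 1 := by
      rw [Finset.card_le_one]
      intro a ha a' ha'
      rw [Finset.mem_erase, hR, Finset.mem_filter] at ha ha'
      exact radical_unique m hμ ha.1 ha'.1 ha.2.2 ha'.2.2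
    have h2 := Finset.pred_card_le_card_erase (s := R) (a := 0)
    omega
  have hsum : ∑ x : Qsub F m, ‖θ x‖ ^ 2 = (Fintype.card F : ℝ) ^ 2 := by
    have h := irr_inner_self hθ
    unfold classInner at h
    rw [card_Qsub] at h
    have hq : ((Fintype.card F ^ 2 : ℕ) : ℂ) ≠ 0 := by
      exact_mod_cast pow_ne_zero 2 Fintype.card_ne_zero
    have h2 : ∑ g : Qsub F m, θ g * conj (θ g) = ((Fintype.card F ^ 2 : ℕ) : ℂ) := by
      field_simp at h
      exact h
    have h3 : ∀ g : Qsub F m, θ g * conj (θ g) = ((‖θ g‖ ^ 2 : ℝ) : ℂ) := by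
      intro g
      rw [Complex.mul_conj, Complex.normSq_eq_norm_sq]
    simp_rw [h3] at h2
    rw [← Complex.ofReal_sum] at h2
    have h4 : ((Fintype.card F ^ 2 : ℕ) : ℂ) = (((Fintype.card F : ℝ) ^ 2 : ℝ) : ℂ) := by
      push_cast
      rfl
    rw [h4] at h2
    exact Complex.ofReal_injective h2
  have hsum2 : ∑ x : Qsub F m, ‖θ x‖ ^ 2 ≤ (R.card : ℝ) * ((Fintype.card F : ℝ) * (n : ℝ) ^ 2) := by
    rw [← (QEquiv m).sum_comp, Fintype.sum_prod_type]
    have h1 : ∀ a : F, ∑ b : F, ‖θ (QEquiv m (a, b))‖ ^ 2 ≤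
        if a ∈ R then (Fintype.card F : ℝ) * (n : ℝ) ^ 2 else 0 := by
      intro a
      split_ifs with ha
      · calc ∑ b : F, ‖θ (QEquiv m (a, b))‖ ^ 2 ≤ ∑ _b : F, (n : ℝ) ^ 2 := by
              apply Finset.sum_le_sum
              intro b _
              have := char_norm_le (irr_char hθ) hn (QEquiv m (a, b))
              gcongr
          _ = _ := by
              rw [Finset.sum_const, Finset.card_univ, nsmul_eq_mul]
      · rw [hR, Finset.mem_filter] at ha
        push Not at ha
        obtain ⟨c, hc⟩ := ha (Finset.mem_univ a)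
        apply le_of_eq
        apply Finset.sum_eq_zero
        intro b _
        have : θ (QEquiv m (a, b)) = 0 := irrQ_vanish m hθ a b c hc
        rw [this]
        simp
    calc ∑ a : F, ∑ b : F, ‖θ (QEquiv m (a, b))‖ ^ 2
        ≤ ∑ a : F, if a ∈ R then (Fintype.card F : ℝ) * (n : ℝ) ^ 2 else 0 :=
          Finset.sum_le_sum (fun a _ => h1 a)
      _ = _ := by
          rw [← Finset.sum_filter, Finset.sum_const, nsmul_eq_mul]
          congr 3
          ext a
          simp
  rw [hsum] at hsum2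
  have hq : (0 : ℝ) < (Fintype.card F : ℝ) := by exact_mod_cast Fintype.card_pos
  have h5 : (Fintype.card F : ℝ) ≤ 2 * (n : ℝ) ^ 2 := by
    have h6 : (R.card : ℝ) ≤ 2 := by exact_mod_cast hRcard
    have h7 : (Fintype.card F : ℝ) ^ 2 ≤ 2 * ((Fintype.card F : ℝ) * (n : ℝ) ^ 2) := by
      refine hsum2.trans ?_
      gcongr
    nlinarith
  have h6 : Fintype.card F ≤ 2 * n ^ 2 := by exact_mod_cast h5
  rw [SzField.card (F := F) (m := m)] at h6
  have h7 : (2 ^ m) ^ 2 ≤ n ^ 2 := by
    have : 2 ^ (2 * m + 1) = 2 * (2 ^ m) ^ 2 := by ring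
    omega
  exact (Nat.pow_le_pow_iff_left (by norm_num)).1 h7

end Cfsg.Agent.Lib.Helper39.SzDeg
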